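import Mathlib.LinearAlgebra.ExteriorAlgebra.Basic
import Mathlib.LinearAlgebra.ExteriorAlgebra.OfAlternating
import Mathlib.LinearAlgebra.Matrix.Determinant.Basic
import Mathlib.Algebra.CharZero.Defs
import Mathlib.Data.Fintype.Perm
import Mathlib.LinearAlgebra.Matrix.Notation
import Mathlib.Tactic.NormNum
import Mathlib.Tactic.FinCases
import Mathlib.Tactic.Ring
import Mathlib.Algebra.Order.BigOperators.Group.Finset
import Mathlib.Algebra.Order.Ring.Int

/-!
# The Reynolds operator on the top exterior power of a cycle space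
-/

set_option autoImplicit false
universe u

namespace K985.SymRep

/-- integer cycle vectors. -/
def zI (i j l a b : Fin 4) : ℤ :=
  (if a = i ∧ b = j then 1 else 0) + (if a = j ∧ b = l then 1 else 0) + (if a = l ∧ b = i then 1 else 0)
          - (if a = j ∧ b = i then 1 else 0) - (if a = l ∧ b = j then 1 else 0) - (if a = i ∧ b = l then 1 else 0)

variable (k : Type u) [Field k]

abbrev Fk : Type u := Fin 2 → Fin 4 → Fin 4 → k

/-- the four coordinates. -/
def phi : Fk k →ₗ[k] (Fin 4 → k) where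
  toFun f := ![f 0 1 2, f 1 1 2, f 0 2 3, f 1 2 3]
  map_add' f g := by ext i; fin_cases i <;> rfl
  map_smul' c f := by ext i; fin_cases i <;> rfl

noncomputable def D : (Fk k) [⋀^Fin 4]→ₗ[k] k :=
  (Matrix.detRowAlternating (R := k) (n := Fin 4)).compLinearMap (phi k)

theorem D_apply (v : Fin 4 → Fk k) : D k v = Matrix.det (Matrix.of fun j => phi k (v j)) := rfl

noncomputable def fam : ∀ i : ℕ, (Fk k) [⋀^Fin i]→ₗ[k] k := Function.update (fun _ => 0) 4 (D k)

/-- The functional on the exterior algebra. -/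
noncomputable def Lf : ExteriorAlgebra k (Fk k) →ₗ[k] k := ExteriorAlgebra.liftAlternating (fam k)

theorem Lf_apply (v : Fin 4 → Fk k) : Lf k (ExteriorAlgebra.ιMulti k 4 v) = D k v := by
  rw [Lf, ExteriorAlgebra.liftAlternating_apply_ιMulti]
  rw [fam, Function.update_self]

theorem prod_eq (v0 v1 v2 v3 : Fk k) :
    ExteriorAlgebra.ι k v0 * ExteriorAlgebra.ι k v1 * ExteriorAlgebra.ι k v2 * ExteriorAlgebra.ι k v3 =
      ExteriorAlgebra.ιMulti k 4 ![v0, v1, v2, v3] := by
  simp [ExteriorAlgebra.ιMulti_apply, mul_assoc]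

theorem det_block (α β γ δ : k) :
    Matrix.det (Matrix.of ![![α, 0, γ, 0], ![0, α, 0, γ], ![β, 0, δ, 0], ![0, β, 0, δ]]) =
      (α * δ - β * γ) ^ 2 := by
  simp [Matrix.det_succ_row_zero, Fin.sum_univ_succ, Fin.succAbove, Matrix.submatrix]
  ring

/-- The integer `2 × 2` minor. -/
def mI (σ : Equiv.Perm (Fin 4)) : ℤ :=
  zI (σ 0) (σ 1) (σ 2) 1 2 * zI (σ 0) (σ 2) (σ 3) 2 3 -
    zI (σ 0) (σ 2) (σ 3) 1 2 * zI (σ 0) (σ 1) (σ 2) 2 3

theorem mI_one : mI 1 = 1 := by decide

theorem sum_mI_pos : 0 < ∑ σ : Equiv.Perm (Fin 4), mI σ ^ 2 := by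
  apply Finset.sum_pos' (fun σ _ => sq_nonneg _)
  exact ⟨1, Finset.mem_univ _, by rw [mI_one]; norm_num⟩

end K985.SymRep
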