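import Mathlib.Algebra.MvPolynomial.Rename
import Mathlib.LinearAlgebra.Matrix.Determinant.Basic
import Mathlib.Data.Prod.Lex
import Mathlib.Algebra.CharZero.Defs
import Mathlib.LinearAlgebra.LinearIndependent.Basic
import Mathlib.Order.Fin.Basic
import Mathlib.Order.WellFounded

/-!
# Alternating polynomials in two sets of variables
-/

set_option autoImplicit false
universe u

namespace K985.SymRep

open MvPolynomial

variable (k : Type u) [Field k] (n : ℕ)

/-- The exponent vector attached to a tuple of pairs. -/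
noncomputable def expo (p : Fin n → ℕ × ℕ) : (Fin n × Fin 2) →₀ ℕ :=
  Finsupp.equivFunOnFinite.symm (fun v => if v.2 = 0 then (p v.1).1 else (p v.1).2)

theorem expo_zero (p : Fin n → ℕ × ℕ) (i : Fin n) : expo n p (i, 0) = (p i).1 := by
  simp [expo]

theorem expo_one (p : Fin n → ℕ × ℕ) (i : Fin n) : expo n p (i, 1) = (p i).2 := by
  simp [expo]

theorem expo_injective : Function.Injective (expo n) := by
  intro p q h
  funext i
  have h0 := congrArg (fun d => d (i, 0)) h
  have h1 := congrArg (fun d => d (i, 1)) h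
  simp only [expo_zero, expo_one] at h0 h1
  exact Prod.ext h0 h1

theorem expo_surj (d : (Fin n × Fin 2) →₀ ℕ) : expo n (fun i => (d (i, 0), d (i, 1))) = d := by
  ext ⟨i, j⟩
  fin_cases j
  · exact expo_zero n _ i
  · exact expo_one n _ i

theorem mono_eq (p : Fin n → ℕ × ℕ) :
    (monomial (expo n p) (1 : k)) =
      ∏ i : Fin n, (X (i, 0) : MvPolynomial (Fin n × Fin 2) k) ^ (p i).1 * X (i, 1) ^ (p i).2 := by
  rw [monomial_eq, C_1, one_mul, Finsupp.prod_fintype _ _ (fun i => pow_zero _),
    Fintype.prod_prod_type]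
  refine Finset.prod_congr rfl fun i _ => ?_
  rw [Fin.prod_univ_two, expo_zero, expo_one]

/-- The action of a permutation. -/
noncomputable def act (σ : Equiv.Perm (Fin n)) :
    MvPolynomial (Fin n × Fin 2) k →ₐ[k] MvPolynomial (Fin n × Fin 2) k :=
  rename (fun v : Fin n × Fin 2 => (σ v.1, v.2))

theorem act_mul (σ τ : Equiv.Perm (Fin n)) (f : MvPolynomial (Fin n × Fin 2) k) :
    act k n σ (act k n τ f) = act k n (σ * τ) f := by
  rw [act, act, act, rename_rename]
  rfl

theorem act_mono (σ : Equiv.Perm (Fin n)) (p : Fin n → ℕ × ℕ) :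
    act k n σ (monomial (expo n p) 1) =
      ∏ i : Fin n, (X (σ i, 0) : MvPolynomial (Fin n × Fin 2) k) ^ (p i).1 * X (σ i, 1) ^ (p i).2 := by
  rw [mono_eq, map_prod]
  refine Finset.prod_congr rfl fun i _ => ?_
  rw [map_mul, map_pow, map_pow, act, rename_X, rename_X]

theorem act_mono' (σ : Equiv.Perm (Fin n)) (p : Fin n → ℕ × ℕ) :
    act k n σ (monomial (expo n p) 1) = monomial (expo n (p ∘ σ.symm)) 1 := by
  rw [act_mono, mono_eq]
  rw [← Equiv.prod_comp σ.symm]
  refine Finset.prod_congr rfl fun i _ => ?_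
  simp

/-- The antisymmetriser. -/
noncomputable def alt : MvPolynomial (Fin n × Fin 2) k →ₗ[k] MvPolynomial (Fin n × Fin 2) k :=
  ∑ σ : Equiv.Perm (Fin n), ((Equiv.Perm.sign σ : ℤˣ) : ℤ) • (act k n σ).toLinearMap

theorem alt_apply (f : MvPolynomial (Fin n × Fin 2) k) :
    alt k n f = ∑ σ : Equiv.Perm (Fin n), ((Equiv.Perm.sign σ : ℤˣ) : ℤ) • act k n σ f := by
  simp [alt]

/-- The alternant. -/
noncomputable def delta (p : Fin n → ℕ × ℕ) : MvPolynomial (Fin n × Fin 2) k :=
  (Matrix.of fun i j : Fin n =>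
    (MvPolynomial.X (i, 0) : MvPolynomial (Fin n × Fin 2) k) ^ (p j).1 * MvPolynomial.X (i, 1) ^ (p j).2).det

theorem delta_eq (p : Fin n → ℕ × ℕ) : delta k n p = alt k n (monomial (expo n p) 1) := by
  rw [delta, Matrix.det_apply, alt_apply]
  refine Finset.sum_congr rfl fun σ _ => ?_
  rw [act_mono]
  rfl

theorem act_alt (τ : Equiv.Perm (Fin n)) (f : MvPolynomial (Fin n × Fin 2) k) :
    act k n τ (alt k n f) = ((Equiv.Perm.sign τ : ℤˣ) : ℤ) • alt k n f := by
  rw [alt_apply, map_sum, Finset.smul_sum]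
  rw [← Equiv.sum_comp (Equiv.mulLeft τ) (fun σ => ((Equiv.Perm.sign τ : ℤˣ) : ℤ) •
    (((Equiv.Perm.sign σ : ℤˣ) : ℤ) • act k n σ f))]
  refine Finset.sum_congr rfl fun σ _ => ?_
  rw [map_zsmul, act_mul, Equiv.coe_mulLeft, Equiv.Perm.sign_mul, smul_smul]
  congr 1
  push_cast
  rw [← mul_assoc, ← Units.val_mul, Int.units_mul_self, Units.val_one, one_mul]

theorem alt_of_alternating {f : MvPolynomial (Fin n × Fin 2) k}
    (hf : ∀ σ : Equiv.Perm (Fin n), act k n σ f = ((Equiv.Perm.sign σ : ℤˣ) : ℤ) • f) :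
    alt k n f = (n.factorial : k) • f := by
  rw [alt_apply]
  have : ∀ σ : Equiv.Perm (Fin n), ((Equiv.Perm.sign σ : ℤˣ) : ℤ) • act k n σ f = f := by
    intro σ
    rw [hf, smul_smul, ← Units.val_mul, Int.units_mul_self, Units.val_one, one_smul]
  rw [Finset.sum_congr rfl (fun σ _ => this σ), Finset.sum_const, Finset.card_univ,
    Fintype.card_perm, Fintype.card_fin, Nat.cast_smul_eq_nsmul]

theorem alt_mem_span (f : MvPolynomial (Fin n × Fin 2) k) :
    alt k n f ∈ Submodule.span k (Set.range (delta k n)) := by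
  induction f using MvPolynomial.induction_on' with
  | monomial d a =>
    have : (monomial d a : MvPolynomial (Fin n × Fin 2) k) = a • monomial d 1 := by
      rw [smul_monomial, smul_eq_mul, mul_one]
    rw [this, map_smul]
    apply Submodule.smul_mem
    apply Submodule.subset_span
    exact ⟨fun i => (d (i, 0), d (i, 1)), by rw [delta_eq, expo_surj]⟩
  | add p q hp hq => rw [map_add]; exact Submodule.add_mem _ hp hq

theorem alternating_iff [CharZero k] (f : MvPolynomial (Fin n × Fin 2) k) :
    (∀ σ : Equiv.Perm (Fin n), act k n σ f = ((Equiv.Perm.sign σ : ℤˣ) : ℤ) • f) ↔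
      f ∈ Submodule.span k (Set.range (delta k n)) := by
  constructor
  · intro hf
    have h1 := alt_of_alternating k n hf
    have hn : (n.factorial : k) ≠ 0 := Nat.cast_ne_zero.2 n.factorial_ne_zero
    have h2 : f = (n.factorial : k)⁻¹ • alt k n f := by
      rw [h1, smul_smul, inv_mul_cancel₀ hn, one_smul]
    rw [h2]
    exact Submodule.smul_mem _ _ (alt_mem_span k n f)
  · intro hf τ
    induction hf using Submodule.span_induction with
    | mem x hx =>
      obtain ⟨p, rfl⟩ := hx
      rw [delta_eq, act_alt]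
    | zero => rw [map_zero, smul_zero]
    | add x y _ _ hx hy => rw [map_add, smul_add, hx, hy]
    | smul c x _ hx => rw [map_smul, hx, smul_comm]

theorem coeff_delta {p p' : Fin n → ℕ ×ₗ ℕ} (hp : StrictMono p) (hp' : StrictMono p') :
    coeff (expo n (fun i => ofLex (p i))) (delta k n (fun i => ofLex (p' i))) =
      if p = p' then 1 else 0 := by
  classical
  rw [delta_eq, alt_apply, coeff_sum]
  have h1 : ∀ σ : Equiv.Perm (Fin n), coeff (expo n (fun i => ofLex (p i)))
      (((Equiv.Perm.sign σ : ℤˣ) : ℤ) • act k n σ (monomial (expo n (fun i => ofLex (p' i))) 1)) =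
      if σ = 1 ∧ p = p' then 1 else 0 := by
    intro σ
    rw [act_mono', coeff_smul, coeff_monomial]
    by_cases h : expo n ((fun i => ofLex (p' i)) ∘ σ.symm) = expo n (fun i => ofLex (p i))
    · have h2 := expo_injective n h
      have h3 : p' ∘ σ.symm = p := by
        funext i
        exact congrArg toLex (congrFun h2 i)
      have h4 : Set.range p = Set.range p' := by
        rw [← h3]
        exact σ.symm.surjective.range_comp p'
      have h5 : p = p' := (StrictMono.range_inj hp hp').1 h4
      have h6 : σ = 1 := by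
        rw [← h5] at h3
        have : ∀ i, σ.symm i = i := fun i => hp.injective (congrFun h3 i)
        ext i
        rw [Equiv.Perm.one_apply]
        congr 1
        have := this (σ i)
        rw [Equiv.symm_apply_apply] at this
        exact this.symm
      rw [if_pos h, if_pos ⟨h6, h5⟩, h6]
      simp
    · rw [if_neg h, if_neg, smul_zero]
      rintro ⟨rfl, rfl⟩
      exact h rfl
  rw [Finset.sum_congr rfl (fun σ _ => h1 σ)]
  by_cases h : p = p'
  · rw [if_pos h, Finset.sum_eq_single 1]
    · rw [if_pos ⟨rfl, h⟩]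
    · intro b _ hb
      rw [if_neg (fun h => hb h.1)]
    · intro h; exact absurd (Finset.mem_univ _) h
  · rw [if_neg h]
    apply Finset.sum_eq_zero
    intro σ _
    rw [if_neg (fun h' => h h'.2)]

theorem linearIndependent_delta :
    LinearIndependent k (fun p : {p : Fin n → ℕ ×ₗ ℕ // StrictMono p} =>
      delta k n (fun i => ofLex (p.1 i))) := by
  classical
  rw [linearIndependent_iff']
  intro s g hg p hp
  have h := congrArg (coeff (expo n (fun i => ofLex (p.1 i)))) hg
  rw [coeff_sum, coeff_zero] at h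
  rw [Finset.sum_eq_single p] at h
  · rw [coeff_smul, coeff_delta k n p.2 p.2, if_pos rfl, smul_eq_mul, mul_one] at h
    exact h
  · intro b _ hb
    rw [coeff_smul, coeff_delta k n p.2 b.2, if_neg, smul_zero]
    intro h'
    exact hb (Subtype.ext h'.symm)
  · intro h'; exact absurd hp h'

end K985.SymRep
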